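import Groth.Agent.ProjTwistLib.Mul
import Groth.Agent.ProjQuotLib.Basic
import Groth.Agent.CubeLib.Sec
import Groth.Agent.ParaFLib.Glue
import Groth.Agent.ParaFLib.Extend
import Groth.Prelude.Def_PCone

/-!
# Inverse image of `O(n)` along the morphism of a graded homomorphism defined on part of `Proj`
-/

set_option autoImplicit false
set_option backward.isDefEq.respectTransparency false
set_option linter.style.haveILetI false
set_option linter.unusedSectionVars false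

universe u

open CategoryTheory CategoryTheory.Limits AlgebraicGeometry TopologicalSpace Opposite
open HomogeneousLocalization
open Groth.Agent.ParaFLib Groth.Agent.ProjTwist Groth.Agent.ProjTwistLib

noncomputable section

namespace Groth.Agent.PConeTwistLib

variable {R A : Type u} [CommRing R] [CommRing A] [Algebra R A] {𝒜 : ℕ → Submodule R A} [GradedAlgebra 𝒜]
variable {B : Type u} [CommRing B] [Algebra R B] {ℬ : ℕ → Submodule R B} [GradedAlgebra ℬ]

theorem valAt_away_smul {d : ℕ} {f : A} (hf : f ∈ 𝒜 d) (k : ℕ) (b : A) (hb : b ∈ 𝒜 (k • d)) {m : ℤ}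
    (s : Γ(Twist.twist 𝒜 m, Proj.basicOpen 𝒜 f)) (x : Proj.basicOpen 𝒜 f) :
    valAt ((Proj.awayToSection 𝒜 f (Away.mk 𝒜 hf k b hb)) • s) x =
      (Localization.mk b ⟨f ^ k, fun h => x.2 (x.1.isPrime.mem_of_pow_mem k h)⟩ : Twist.Loc 𝒜 x.1) * valAt s x := by
  rw [valAt_smul]
  refine congrArg (· * valAt s x) ?_
  show HomogeneousLocalization.val (HomogeneousLocalization.mk _) = _
  rw [HomogeneousLocalization.val_mk]
  rfl

theorem pow_mem' {d : ℕ} {f : A} (hf : f ∈ 𝒜 d) (k : ℕ) : f ^ k ∈ 𝒜 (k * d) := by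
  simpa using SetLike.pow_mem_graded k hf

/-- The standard basis `f ^ n⁺ / f ^ n⁻` of `O(n)` over an open of `D₊(f)`. -/
def basis {f : A} (hf : f ∈ 𝒜 1) (n : ℤ) {V : (Proj 𝒜).Opens} (hV : V ≤ Proj.basicOpen 𝒜 f) :
    Γ(Twist.twist 𝒜 n, V) :=
  frac 𝒜 (⟨f ^ n.toNat, pow_mem' hf _⟩ : 𝒜 (n.toNat * 1)) (⟨f ^ (-n).toNat, pow_mem' hf _⟩ : 𝒜 ((-n).toNat * 1)) n
    (by push_cast; omega) fun x hx h => hV hx (x.isPrime.mem_of_pow_mem _ h)

theorem gen_basis {f : A} (hf : f ∈ 𝒜 1) (n : ℤ) {V : (Proj 𝒜).Opens} (hV : V ≤ Proj.basicOpen 𝒜 f) :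
    Gen V (basis hf n hV) :=
  gen_frac _ _ _ _ _ fun x hx h => hV hx (x.isPrime.mem_of_pow_mem _ h)

theorem valAt_basis {f : A} (hf : f ∈ 𝒜 1) (n : ℤ) {V : (Proj 𝒜).Opens} (hV : V ≤ Proj.basicOpen 𝒜 f) (x : V) :
    valAt (basis hf n hV) x =
      (Localization.mk (f ^ n.toNat) ⟨f ^ (-n).toNat, fun h => hV x.2 (x.1.isPrime.mem_of_pow_mem _ h)⟩ : Twist.Loc 𝒜 x.1) := rfl

/-- The ratio of two bases. -/
def ratioAway {f g : A} (hf : f ∈ 𝒜 1) (hg : g ∈ 𝒜 1) (n : ℤ) : Away 𝒜 (f * g) :=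
  Away.mk 𝒜 (SetLike.mul_mem_graded hf hg) (n.toNat + (-n).toNat) (f ^ (2 * n.toNat) * g ^ (2 * (-n).toNat)) (by
    have h := SetLike.mul_mem_graded (pow_mem' hf (2 * n.toNat)) (pow_mem' hg (2 * (-n).toNat))
    rw [show (n.toNat + (-n).toNat) • (1 + 1) = 2 * n.toNat * 1 + 2 * (-n).toNat * 1 by rw [smul_eq_mul]; ring]
    exact h)

theorem basis_ratio {f g : A} (hf : f ∈ 𝒜 1) (hg : g ∈ 𝒜 1) (n : ℤ)
    (hVf : Proj.basicOpen 𝒜 (f * g) ≤ Proj.basicOpen 𝒜 f) (hVg : Proj.basicOpen 𝒜 (f * g) ≤ Proj.basicOpen 𝒜 g) :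
    basis hf n hVf = Proj.awayToSection 𝒜 (f * g) (ratioAway hf hg n) • basis hg n hVg := by
  refine sect_ext fun x => ?_
  rw [ratioAway, valAt_away_smul, valAt_basis, valAt_basis, Localization.mk_mul, Localization.mk_eq_mk_iff,
    Localization.r_iff_exists]
  refine ⟨1, ?_⟩
  simp only [OneMemClass.coe_one, one_mul, Submonoid.coe_mul, mul_pow]
  ring

variable (φ : 𝒜 →+*ᵍ ℬ) (p : (PCone.dom φ : Scheme.{u}) ⟶ Proj 𝒜)
  (hp : ∀ (d : ℕ) (f : A) (hd : 0 < d) (hf : f ∈ 𝒜 d),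
    PCone.chart φ hf hd ≫ p =
      Spec.map (CommRingCat.ofHom (HomogeneousLocalization.Away.map φ f)) ≫ Proj.awayι 𝒜 f hf hd)

/-- The trace of `D₊(φ f)` on the domain. -/
abbrev piece (f : A) : (PCone.dom φ : Scheme.{u}).Opens := (PCone.dom φ).ι ⁻¹ᵁ Proj.basicOpen ℬ (φ f)

theorem le_dom {d : ℕ} (hd : 0 < d) {f : A} (hf : f ∈ 𝒜 d) : Proj.basicOpen ℬ (φ f) ≤ PCone.dom φ :=
  le_iSup (fun g : {g : A // ∃ d : ℕ, 0 < d ∧ g ∈ 𝒜 d} => Proj.basicOpen ℬ (φ g.1)) ⟨f, d, hd, hf⟩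

theorem isAffineOpen_piece {d : ℕ} (hd : 0 < d) {f : A} (hf : f ∈ 𝒜 d) : IsAffineOpen (piece φ f) := by
  rw [← (PCone.dom φ).ι.isAffineOpen_iff_of_isOpenImmersion, Scheme.Hom.image_preimage_eq_opensRange_inf,
    Scheme.Opens.opensRange_ι, inf_eq_right.2 (le_dom φ hd hf)]
  exact Proj.isAffineOpen_basicOpen ℬ (φ f) (φ.2 hf) hd

include hp in
theorem preimage_eq {e : ℕ} (he : 0 < e) {g : A} (hg : g ∈ 𝒜 e) :
    p ⁻¹ᵁ Proj.basicOpen 𝒜 g = piece φ g := by
  refine TopologicalSpace.Opens.ext (Set.ext fun x => ?_)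
  obtain ⟨⟨f, d, hd, hf⟩, hx⟩ := TopologicalSpace.Opens.mem_iSup.mp x.2
  obtain ⟨q, hq⟩ : x.1 ∈ Set.range (Proj.awayι ℬ (φ f) (φ.2 hf) hd) := by
    rw [← Scheme.Hom.coe_opensRange, Proj.opensRange_awayι]
    exact hx
  have hqx : PCone.chart φ hf hd q = x := by
    refine (PCone.dom φ).ι.isOpenEmbedding.injective ?_
    rw [← Scheme.Hom.comp_apply, PCone.chart, IsOpenImmersion.lift_fac]
    exact hq
  subst hqx
  change q ∈ (PCone.chart φ hf hd ≫ p) ⁻¹ᵁ Proj.basicOpen 𝒜 g ↔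
    q ∈ (PCone.chart φ hf hd ≫ (PCone.dom φ).ι) ⁻¹ᵁ Proj.basicOpen ℬ (φ g)
  rw [hp, PCone.chart, IsOpenImmersion.lift_fac, Scheme.Hom.comp_preimage,
    Proj.awayι_preimage_basicOpen 𝒜 hf hd hg he]
  erw [Proj.awayι_preimage_basicOpen ℬ (φ.2 hf) hd (φ.2 hg) he]
  change HomogeneousLocalization.Away.map φ f (HomogeneousLocalization.Away.isLocalizationElem hf hg) ∉
      (q : PrimeSpectrum (HomogeneousLocalization.Away ℬ (φ f))).asIdeal ↔ _
  rw [HomogeneousLocalization.Away.map_mk]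
  have : φ (g ^ d) = φ g ^ d := map_pow φ.toRingHom g d
  simp only [this]
  rfl

include hp in
/-- On a chart the morphism is the map of degree zero localizations. -/
theorem awayToSection_appLE {d : ℕ} (hd : 0 < d) {f : A} (hf : f ∈ 𝒜 d) :
    Proj.awayToSection 𝒜 f ≫ p.appLE (Proj.basicOpen 𝒜 f) (piece φ f) (preimage_eq φ p hp hd hf).ge =
      CommRingCat.ofHom (Away.map φ f) ≫ Proj.awayToSection ℬ (φ f) ≫
        (PCone.dom φ).ι.appLE (Proj.basicOpen ℬ (φ f)) (piece φ f) le_rfl := by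
  have hU := isAffineOpen_piece φ hd hf
  apply Spec.map_injective
  rw [← cancel_mono (Proj.awayι 𝒜 f hf hd), Spec.map_comp, Spec.map_comp, Spec.map_comp, Category.assoc,
    Category.assoc, Category.assoc, ProjQuotLib.SpecMap_awayToSection_awayι hf hd, ← hp d f hd hf,
    IsAffineOpen.SpecMap_appLE_fromSpec p (Proj.isAffineOpen_basicOpen 𝒜 f hf hd) hU,
    ← Category.assoc, ← Category.assoc]
  congr 1
  rw [← cancel_mono (PCone.dom φ).ι, Category.assoc, Category.assoc, PCone.chart, IsOpenImmersion.lift_fac]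
  erw [ProjQuotLib.SpecMap_awayToSection_awayι (φ.2 hf) hd]
  rw [IsAffineOpen.SpecMap_appLE_fromSpec (PCone.dom φ).ι (Proj.isAffineOpen_basicOpen ℬ (φ f) (φ.2 hf) hd) hU]

include hp in
theorem nonempty_iso (hgen : (HomogeneousIdeal.irrelevant 𝒜).toIdeal = Ideal.span (𝒜 1 : Set A)) (n : ℤ) :
    Nonempty ((Scheme.Modules.pullback p).obj (Twist.twist 𝒜 n) ≅ (Twist.twist ℬ n).restrict (PCone.dom φ).ι) := by
  classical
  let j := (PCone.dom φ).ι
  let F := Twist.twist 𝒜 n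
  let L := (Scheme.Modules.pullback p).obj F
  let L' := (Twist.twist ℬ n).restrict j
  have hcov : ∀ x : Proj 𝒜, ∃ f ∈ 𝒜 1, x ∈ Proj.basicOpen 𝒜 f := fun x => by
    by_contra hne
    refine x.not_irrelevant_le fun a ha => ?_
    have h1 : a ∈ Ideal.span (𝒜 1 : Set A) := hgen ▸ ha
    exact Ideal.span_le.2 (fun f hf => by_contra fun hx => hne ⟨f, hf, hx⟩) h1
  have hF : PicF.IsInvertible F := isInvertible_of_hasUnit fun x => by
    obtain ⟨f, hf, hx⟩ := hcov x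
    exact ⟨n.toNat * 1, (-n).toNat * 1, ⟨_, pow_mem' hf _⟩, ⟨_, pow_mem' hf _⟩, by push_cast; omega,
      fun h => hx (x.isPrime.mem_of_pow_mem _ h), fun h => hx (x.isPrime.mem_of_pow_mem _ h)⟩
  let ι := {f : A // f ∈ 𝒜 1}
  let U : ι → (PCone.dom φ : Scheme.{u}).Opens := fun f => piece φ f.1
  have hUle : ∀ f : ι, U f ≤ p ⁻¹ᵁ Proj.basicOpen 𝒜 f.1 := fun f => (preimage_eq φ p hp one_pos f.2).ge
  have hU : iSup U = ⊤ := eq_top_iff.2 fun x _ => by
    obtain ⟨f, hf, hx⟩ := hcov (p x)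
    exact Opens.mem_iSup.2 ⟨⟨f, hf⟩, (preimage_eq φ p hp one_pos hf).le hx⟩
  let s : ∀ f : ι, Γ(L, U f) := fun f => PullbackMod.pullMap p F (hUle f) (basis f.2 n le_rfl)
  let t : ∀ f : ι, Γ(L', U f) := fun f => basis (φ.map_mem f.2) n (j.image_preimage_le _)
  have hs : ∀ f, Gen (U f) (s f) := fun f => CubeLib.gen_pullMap p hF (gen_basis f.2 n le_rfl) (hUle f)
  have ht : ∀ f, Gen (U f) (t f) := fun f => (gen_restrict_iff j _).2 (gen_basis _ n _)
  have hle : ∀ f g : ι, U f ⊓ U g ≤ piece φ (f.1 * g.1) := fun f g x hx => by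
    show j x ∈ Proj.basicOpen ℬ (φ (f.1 * g.1))
    rw [map_mul φ f.1 g.1, Proj.basicOpen_mul]
    exact hx
  let η : ∀ f g : ι, Γ((PCone.dom φ : Scheme.{u}), U f ⊓ U g) := fun f g =>
    p.appLE (Proj.basicOpen 𝒜 (f.1 * g.1)) _
      ((hle f g).trans (preimage_eq φ p hp (by omega) (SetLike.mul_mem_graded f.2 g.2)).ge)
      (Proj.awayToSection 𝒜 (f.1 * g.1) (ratioAway f.2 g.2 n))
  refine nonempty_iso_of_bases hU hs ht η (fun f g => ?_) fun f g => ?_
  · have hVf : Proj.basicOpen 𝒜 (f.1 * g.1) ≤ Proj.basicOpen 𝒜 f.1 := Proj.basicOpen_mono 𝒜 _ _ (Dvd.intro _ rfl)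
    have hVg : Proj.basicOpen 𝒜 (f.1 * g.1) ≤ Proj.basicOpen 𝒜 g.1 := Proj.basicOpen_mono 𝒜 _ _ (Dvd.intro_left _ rfl)
    have e' := (hle f g).trans (preimage_eq φ p hp (by omega) (SetLike.mul_mem_graded f.2 g.2)).ge
    refine (PullbackMod.pullMap_res p F (hUle f) hVf inf_le_left e' _).trans ?_
    refine Eq.trans ?_ (congrArg (η f g • ·) (PullbackMod.pullMap_res p F (hUle g) hVg inf_le_right e' _).symm)
    refine (congrArg (PullbackMod.pullMap p F e') ?_).trans (PullbackMod.pullMap_smul p F e' _ _)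
    exact basis_ratio f.2 g.2 n hVf hVg
  · let V := j ''ᵁ (U f ⊓ U g)
    have hV : V ≤ Proj.basicOpen ℬ (φ (f.1 * g.1)) := (j.image_mono (hle f g)).trans (j.image_preimage_le _)
    let z := Away.map φ (f.1 * g.1) (ratioAway f.2 g.2 n)
    have hη : (j.appIso (U f ⊓ U g)).inv (η f g) =
        (Proj ℬ).presheaf.map (homOfLE hV).op (Proj.awayToSection ℬ (φ (f.1 * g.1)) z) := by
      have h2 := SetLike.mul_mem_graded f.2 g.2
      have e1 : η f g = j.appLE (Proj.basicOpen ℬ (φ (f.1 * g.1))) (U f ⊓ U g) (hle f g)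
          (Proj.awayToSection ℬ (φ (f.1 * g.1)) z) := by
        have h1 := ConcreteCategory.congr_hom (awayToSection_appLE φ p hp (show 0 < 1 + 1 by omega) h2)
          (ratioAway f.2 g.2 n)
        have h3 := congrArg ((PCone.dom φ : Scheme.{u}).presheaf.map (homOfLE (hle f g)).op) h1
        rw [show η f g = (PCone.dom φ : Scheme.{u}).presheaf.map (homOfLE (hle f g)).op
          (p.appLE _ _ (preimage_eq φ p hp (by omega) h2).ge
            (Proj.awayToSection 𝒜 (f.1 * g.1) (ratioAway f.2 g.2 n))) from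
          (ConcreteCategory.congr_hom (p.appLE_map _ (homOfLE (hle f g)).op) _).symm]
        exact h3.trans (ConcreteCategory.congr_hom (j.appLE_map (U := Proj.basicOpen ℬ (φ (f.1 * g.1))) (V := piece φ (f.1 * g.1)) le_rfl (homOfLE (hle f g)).op) _)
      rw [e1]
      exact ConcreteCategory.congr_hom (j.appLE_appIso_inv (hle f g)) _
    refine sect_ext fun x => ?_
    show valAt (basis (φ.map_mem f.2) n (j.image_preimage_le _)) ⟨x.1, j.image_mono inf_le_left x.2⟩ =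
      valAt (((j.appIso (U f ⊓ U g)).inv (η f g)) • (Twist.twist ℬ n).presheaf.map
        (homOfLE (j.image_mono (inf_le_right : U f ⊓ U g ≤ U g))).op (basis (φ.map_mem g.2) n (j.image_preimage_le _))) x
    rw [hη, valAt_smul, valAt_res, valAt_basis, valAt_basis]
    have hz : ((((Proj ℬ).presheaf.map (homOfLE hV).op (Proj.awayToSection ℬ (φ (f.1 * g.1)) z)) :
        Twist.O (𝒜 := ℬ) (op V)).1 x).val =
        (Localization.mk (φ (f.1 ^ (2 * n.toNat) * g.1 ^ (2 * (-n).toNat)))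
          ⟨φ (f.1 * g.1) ^ (n.toNat + (-n).toNat), fun h => hV x.2 (x.1.isPrime.mem_of_pow_mem _ h)⟩ :
          Twist.Loc ℬ x.1) := by
      simp only [z, ratioAway, Away.map_mk]
      show HomogeneousLocalization.val (HomogeneousLocalization.mk _) = _
      rw [HomogeneousLocalization.val_mk]
      rfl
    rw [hz, Localization.mk_mul, Localization.mk_eq_mk_iff, Localization.r_iff_exists]
    refine ⟨1, ?_⟩
    simp only [OneMemClass.coe_one, one_mul, Submonoid.coe_mul, map_mul φ, map_pow φ, mul_pow,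
      show ∀ a : A, φ.toRingHom a = φ a from fun _ => rfl]
    ring

end Groth.Agent.PConeTwistLib
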